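import Cfsg.Agent.Lib.ToddCox.Glue
set_option autoImplicit false
set_option maxRecDepth 100000
namespace Cfsg.Agent.Lib.ToddCox.HeC2
def E_0 : ℕ := 0x2f040000b40000b4100002f00002f000000b80000b8000002f00002e040000ac0000ac100002e00002d000000a40000a4000002d00002c000000a80000a8000002c00002b00000098000098000002b0000290400008c00008c10000290000280000008800008800000280000270800008400008420000270000260400007c00007c10000260000250000007800007800000250000240800007400007420000240000230000007c00007c000002300002008000064000064200002000001c08000054000054200001c00001b0000005c00005c000001b00001a0800004c00004c200001a0000180000005000005000000180000160800003c00003c20000160000120800002c00002c200001200001100000028000028000001100001000000030000030000001000000e08000020000020200000e00000d0000001c00001c000000d0000050000000c00000c000000500002c080000bc0000bc200002c00002a080000b80000b8200002a000028080000b40000b42000028000027040000b00000b01000027000025080000ac0000ac2000025000024040000a80000a81000024000022080000a40000a42000022000021040000a00000a010000210000200000009c00009c000002000001e08000098000098200001e00001d04000094000094100001d00001c00000090000090000001c00001b0800008c00008c200001b00001a04000088000088100001a0000190000008400008400000190000180400008000008010000180000170800007c00007c20000170000160400007800007810000160000150000007400007400000150000140400007000007010000140000130400006c00006c100001300001200000068000068000001200001104000064000064100001100001008000060000060200001000000f0400005c00005c100000f00000e00000058000058000000e00000d04000054000054100000d00000c08000050000050200000c00000b0000004c00004c000000b00000a04000048000048100000a0000090800004400004420000090000090400004000004010000090000080000003c00003c00000080000070400003800003810000070000060800003400003420000060000060400003000003010000060000050400002c00002c10000050000040800002800002820000040000040000002400002400000040000030400002000002010000030000020800001c00001c20000020000020000001800001800000020000010800001400001420000010000010400001000001010000010000000800000c00000c2000000000000040000080000081000000000000000000040000040000000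
end Cfsg.Agent.Lib.ToddCox.HeC2
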