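import Cfsg.Agent.Lib.ToddCox.HeC2.Data
set_option autoImplicit false
set_option maxRecDepth 100000
namespace Cfsg.Agent.Lib.ToddCox.HeC2
theorem wordsGood : allBelow (wordsOK W (relR Rb inv) inv sp) nW 3 = true := by decide +kernel
theorem d0 : allBits (fun k => bif Nat.blt k 47 then chkDef Eo inv k else true) 13 0 = true := by decide +kernel
theorem s0 : chkStream Eo inv W isH 25 47 0x2e00001580000fe00004f00002c80000100000b800008700002d80000000000b400005200003c80001240000aa00000400002c00002040000a200000000002b000013000007c00006d00001b800011c0000a600000200002a00001ec00009600000000002800001080000de000035000022800001000009c000040000018000019c0000460000330000218000008000098000075000020800000c00009400003a00003580000b400007a00000400002400000e000005000006100000d80000ac00007600000200002300001cc00007200000300002200001c400007a00000000001f00000b800003c000021000018800000400006c00002600000b000006400005200000100001a000009000002800005f000007800007400005a00000200001900001a400004a000003000017000019400004e000000000015000018c00003a000003000011000004800000c00000900000a8000004000040000010000009800000000003c000010000003000000000000600000b00000b800000800003400000c000001000001400001e00000100000c000002800001a000000000004000000000000a000000 = true := by decide +kernel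
theorem c0 : Covered Eo inv W isH 47 72 := covered_of_stream 25 47 _ s0
def M0 : List ℕ := [nat_lit 0x35800005800005800001700000e80000200000c400000800000d800001c00005400001600000c8000018000050000015000030000001c00004c00001400000b80000180000ca000010000034800004800002a000005000012000004c00002600000400001100000480000ce000011000010000004400003c00001000000880000100000c600000e000007800000c00003800000f000006800000800003400000e000030800003400003000000d00000b0000030000016000002000004800000400002800000b00002f000000c00002400000a0000038000004000020000009000002800000000001c00000800002f80000140000180000070000018000000000014000006000004000001400000c00000400000080000000000080000030000010000008000000000001,nat_lit 0x1e800005c0000fa00002600003b800008c00009400002600001d80000580000f600002500003c800009000009000002500001c80000540000e400001500001b800005000008c000024000022000008c00006a000013000038000005c0000dc000013000021000008800006600001200003a8000080000062000011000020000008400005e00001000001f00000800000d800001400001e000007c00005a00000f000038800006c0000d400000f00001d000007800005600000e000039800007000005200000d00001c000007400004e00000c00001b00000700000da000018000037800006800006800001b000012800002c0000d000000b000011800002800006400001a0000108000024000060000019000033000002800005c00001800000f80000240000c800000c,nat_lit 0x2e80000b000011c00002d00004600000b80000b600002a00004500000ac00011a00002f00002c80000a000011e00002f00004400000a40000b800002f00002b800009c00010c00002a00002a800009400011600002e00004200000980000b400002e000029800009000010e00002c000028800008800010400002300004480000b40000b000002d000027800008400010000002200003f00000840000ac00002c000026800008000009600001e00003e000007c00010a00002b00002a00000ac00009200001d00003d00000780000f000001d00002900000a800008e00001c000022800006c00010600002900003b000007c0000a0000029000021800006800010200002800003f800009c00009c00002800002080000640000e800001900001f8000060000098000027]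
theorem l0 : chkPointChunks Eo cF (2 * nEv) N ys 16 M0 0 = true := by decide +kernel
theorem k0 : LinksOK Eo cF (2 * nEv) N ys 0 48 := linksOK_of_chunks 16 M0 0 48 rfl l0
end Cfsg.Agent.Lib.ToddCox.HeC2
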